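import Cfsg.Agent.Lib.UThreeLocal.Loc.Interface

/-!
# The data at `r = t₂` when a Sylow three-subgroup of `C(Z)` has order `3⁷` and the outer class is inverted

`BigOut`: what the local analysis gives, and all that the reduction `C(r) ≤ N(R)` uses.
`BigLink`: what in addition the transfer to a subgroup of index two uses.
-/

set_option autoImplicit false

namespace Cfsg.Agent.UThreeLocal.Big

open Subgroup

universe u

variable {G : Type u} [Group G]

/-- The extraspecial group at the involution, the simple part of its local subgroup, the elementary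
three-group of order `81` and one point of it. -/
structure BigOut (r : G) (R A N0 : Subgroup G) (z : G) : Prop where
  two : orderOf r = 2
  extra : Cfsg.IsExtraspecial 2 ↥R
  card_R : Nat.card ↥R = 512
  centre : (center ↥R).map R.subtype = zpowers r
  cent : centralizer (R : Set G) = zpowers r
  R_le : R ≤ N0
  N0_le : N0 ≤ centralizer ({r} : Set G) ⊓ normalizer (R : Set G)
  normal : ∀ n ∈ centralizer ({r} : Set G) ⊓ normalizer (R : Set G), ∀ m ∈ N0, n * m * n⁻¹ ∈ N0
  psp : ∃ (F : Type) (_ : Field F) (_ : Fintype F), Fintype.card F = 3 ∧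
    ∃ ψ : ↥N0 →* Cfsg.PSp 2 F, Function.Surjective ψ ∧ ∀ m, ψ m = 1 ↔ (m : G) ∈ R
  A_cent : A ≤ centralizer ({r} : Set G)
  A_norm : A ≤ normalizer (R : Set G)
  A_comm : IsMulCommutative ↥A
  A_exp : ∀ a ∈ A, a ^ 3 = 1
  A_card : Nat.card ↥A = 81
  A_R : R ⊓ centralizer ((A ⊓ N0 : Subgroup G) : Set G) ≤ zpowers r
  sig : ∀ K : Subgroup G, K ≤ centralizer ({r} : Set G) → (Nat.card ↥K).Coprime 3 →
    A ≤ normalizer (K : Set G) → K ≤ R
  z_mem : z ∈ A
  z_ne : z ≠ 1
  z_inner : z ∈ N0
  z_fix : Nat.card ↥(R ⊓ centralizer ({z} : Set G)) = 8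
  z_cent : centralizer ({z} : Set G) ⊓ centralizer ({r} : Set G) ≤ normalizer (R : Set G)

/-- The link with the three-local data: `n` inverts `z` and every element of `A` modulo the simple part. -/
structure BigLink (Z L1 L2 : Subgroup G) (r : G) (R A N0 : Subgroup G) (z : G) : Prop extends
    BigOut r R A N0 z where
  z_Z : z ∈ Z
  L1_le : L1 ≤ N0
  L2_le : L2 ≤ N0
  flip : ∃ n ∈ centralizer ({r} : Set G) ⊓ normalizer (R : Set G),
    n * z * n⁻¹ = z⁻¹ ∧ ∀ a ∈ A, n * a * n⁻¹ * a ∈ N0

end Cfsg.Agent.UThreeLocal.Big
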